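import Groth.Agent.Lib.QCoh.Abelian
import Groth.Agent.Lib.OX.Exact
import Mathlib.CategoryTheory.Abelian.Basic

/-!
The largest quasi-coherent submodule.
-/

set_option autoImplicit false
set_option backward.isDefEq.respectTransparency false
universe u

noncomputable section

open CategoryTheory CategoryTheory.Limits AlgebraicGeometry

namespace GrothLib.IdealMul9

variable {X : Scheme.{u}}

theorem isQuasicoherent_image_sub {A G F : X.Modules} [A.IsQuasicoherent] [F.IsQuasicoherent] (a : A ⟶ G)
    (j : G ⟶ F) [Mono j] : (Abelian.image a).IsQuasicoherent := by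
  haveI := QCoh.isQuasicoherent_kernel (a ≫ j)
  haveI : (kernel a).IsQuasicoherent := QCoh.isQuasicoherent_of_iso (M := kernel (a ≫ j)) (kernelCompMono a j)
  haveI : (cokernel (kernel.ι a)).IsQuasicoherent := QCoh.isQuasicoherent_cokernel _
  exact QCoh.isQuasicoherent_of_iso (M := Abelian.coimage a) (Abelian.coimageIsoImage a)

theorem exists_largest_qcoh {F G : X.Modules} [F.IsQuasicoherent] (j : G ⟶ F) [Mono j] :
    ∃ (G' : X.Modules) (k : G' ⟶ G), G'.IsQuasicoherent ∧ Mono k ∧
      ∀ H : X.Modules, H.IsQuasicoherent → Function.Bijective (fun φ : H ⟶ G' => φ ≫ k) := by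
  let T := {S : Shrink.{u} (Subobject G) //
    ((Subobject.underlying.obj ((equivShrink (Subobject G)).symm S) : X.Modules)).IsQuasicoherent}
  let fam : T → X.Modules := fun S => Subobject.underlying.obj ((equivShrink (Subobject G)).symm S.1)
  let a : (∐ fam) ⟶ G := Sigma.desc fun S => ((equivShrink (Subobject G)).symm S.1).arrow
  haveI : (∐ fam).IsQuasicoherent :=
    QCoh.isQuasicoherent_colimit (Discrete.functor fam) fun S => S.as.2
  refine ⟨Abelian.image a, Abelian.image.ι a, isQuasicoherent_image_sub a j, inferInstance, fun H hH => ⟨?_, ?_⟩⟩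
  · intro p q hpq
    exact (cancel_mono (Abelian.image.ι a)).1 hpq
  · intro φ
    haveI := hH
    let S := Subobject.mk (Abelian.image.ι φ)
    let e : Abelian.image φ ≅ (Subobject.underlying.obj S : X.Modules) :=
      (Subobject.underlyingIso (Abelian.image.ι φ)).symm
    have he : e.hom ≫ S.arrow = Abelian.image.ι φ := Subobject.underlyingIso_arrow _
    haveI := isQuasicoherent_image_sub φ j
    have hS : ((Subobject.underlying.obj S : X.Modules)).IsQuasicoherent :=
      QCoh.isQuasicoherent_of_iso (M := Abelian.image φ) e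
    let s : T := ⟨equivShrink _ S, by rw [Equiv.symm_apply_apply]; exact hS⟩
    have hs : (equivShrink (Subobject G)).symm s.1 = S := Equiv.symm_apply_apply _ _
    let t : (Subobject.underlying.obj S : X.Modules) ⟶ fam s :=
      eqToHom (congrArg (fun Q : Subobject G => (Q : X.Modules)) hs.symm)
    have h2 : t ≫ ((equivShrink (Subobject G)).symm s.1).arrow = S.arrow := Subobject.arrow_congr _ _ hs.symm
    refine ⟨Abelian.factorThruImage φ ≫ e.hom ≫ t ≫ Sigma.ι fam s ≫ Abelian.factorThruImage a, ?_⟩
    show (Abelian.factorThruImage φ ≫ e.hom ≫ t ≫ Sigma.ι fam s ≫ Abelian.factorThruImage a) ≫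
      Abelian.image.ι a = φ
    simp only [Category.assoc, Abelian.image.fac]
    rw [Sigma.ι_desc, h2, he, Abelian.image.fac]

end GrothLib.IdealMul9
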