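import Groth.Agent.Lib.IdealMul9.Hom
import Groth.Agent.Lib.BlowUp.EffCartier
import Mathlib.RingTheory.Filtration

/-!
Artin-Rees and direct images for the submodules `I · F`.
-/

universe u

open CategoryTheory CategoryTheory.Limits AlgebraicGeometry TopologicalSpace Opposite

noncomputable section

set_option backward.isDefEq.respectTransparency false

namespace GrothLib.IdealMul9

open GrothLib.QCoh

theorem mk_inf_mk {C : Type*} [Category C] [Abelian C] {A G F : C} (a : A ⟶ F) (b : G ⟶ F) [Mono a] [Mono b] :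
    Subobject.mk a ⊓ Subobject.mk b = Subobject.mk (kernel.ι (b ≫ cokernel.π a) ≫ b) := by
  refine le_antisymm ?_ (le_inf ?_ ?_)
  · let S := Subobject.mk a ⊓ Subobject.mk b
    let p := Subobject.ofLEMk S a inf_le_left
    let q := Subobject.ofLEMk S b inf_le_right
    have hp : p ≫ a = S.arrow := Subobject.ofLEMk_comp _
    have hq : q ≫ b = S.arrow := Subobject.ofLEMk_comp _
    refine Subobject.le_mk_of_comm (kernel.lift _ q ?_) ?_
    · rw [← Category.assoc, hq, ← hp, Category.assoc, cokernel.condition, comp_zero]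
    · rw [kernel.lift_ι_assoc, hq]
  · refine Subobject.mk_le_mk_of_comm (Abelian.monoLift a (kernel.ι (b ≫ cokernel.π a) ≫ b) ?_) (Abelian.monoLift_comp _ _ _)
    rw [Category.assoc, kernel.condition]
  · exact Subobject.mk_le_mk_of_comm (kernel.ι _) rfl

variable {X : Scheme.{u}}

theorem range_comp_app {M N P : X.Modules} (φ : M ⟶ N) (ψ : N ⟶ P) (U : X.Opens) :
    LinearMap.range (appLinear (φ ≫ ψ) U) = (LinearMap.range (appLinear φ U)).map (appLinear ψ U) := by
  ext m
  constructor
  · rintro ⟨w, rfl⟩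
    exact ⟨_, ⟨w, rfl⟩, (app_comp_apply φ ψ U w).symm⟩
  · rintro ⟨_, ⟨w, rfl⟩, rfl⟩
    exact ⟨w, app_comp_apply φ ψ U w⟩

theorem range_idealMulι (J : X.IdealSheafData) {F : X.Modules} (hF : F.IsQuasicoherent) (U : X.affineOpens) :
    LinearMap.range (appLinear (Dual3.idealMulι J F) U.1) = J.ideal U • (⊤ : Submodule Γ(X, U.1) Γ(F, U.1)) :=
  Submodule.ext fun m => exists_app_idealMulι_iff J hF U m

theorem range_inter {A G F : X.Modules} (a : A ⟶ F) (b : G ⟶ F) [Mono a] (U : X.Opens) :
    LinearMap.range (appLinear (kernel.ι (b ≫ cokernel.π a) ≫ b) U) =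
      LinearMap.range (appLinear a U) ⊓ LinearMap.range (appLinear b U) := by
  have hS : (ShortComplex.mk a (cokernel.π a) (cokernel.condition _)).ShortExact :=
    { exact := ShortComplex.exact_cokernel _ }
  ext m
  constructor
  · rintro ⟨w, rfl⟩
    refine ⟨?_, (kernel.ι (b ≫ cokernel.π a)).app U w, (app_comp_apply _ _ U w).symm⟩
    refine QCoh.app_exact hS U _ ?_
    show (cokernel.π a).app U ((kernel.ι (b ≫ cokernel.π a) ≫ b).app U w) = 0
    rw [← app_comp_apply, Category.assoc, kernel.condition]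
    rfl
  · rintro ⟨⟨v, hv⟩, g, rfl⟩
    obtain ⟨w, rfl⟩ := (exists_app_kernel (b ≫ cokernel.π a) U g).2 (by
      rw [app_comp_apply]
      show (cokernel.π a).app U (appLinear b U g) = 0
      rw [← hv]
      show (cokernel.π a).app U (a.app U v) = 0
      rw [← app_comp_apply, cokernel.condition]
      rfl)
    exact ⟨w, app_comp_apply _ _ U w⟩

theorem exists_artinRees [IsNoetherian X] {F G : X.Modules} (hF : Coh.IsCoh F) (hG : G.IsQuasicoherent)
    (ι : G ⟶ F) [Mono ι] (I : X.IdealSheafData) :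
    ∃ c : ℕ, ∀ n : ℕ, c ≤ n →
      Subobject.mk (Dual3.idealMulι (I ^ (n - c))
          (Subobject.underlying.obj (Subobject.mk (Dual3.idealMulι (I ^ c) F) ⊓ Subobject.mk ι)) ≫
        (Subobject.mk (Dual3.idealMulι (I ^ c) F) ⊓ Subobject.mk ι).arrow) =
      Subobject.mk (Dual3.idealMulι (I ^ n) F) ⊓ Subobject.mk ι := by
  haveI := hF.1
  haveI := hG
  obtain ⟨κ, hκ, V, hV⟩ := exists_finite_cover X
  have hAR : ∀ i, ∃ k : ℕ, ∀ n ≥ k, I.ideal (V i) ^ n • (⊤ : Submodule Γ(X, (V i).1) Γ(F, (V i).1)) ⊓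
      LinearMap.range (appLinear ι (V i).1) =
      I.ideal (V i) ^ (n - k) • (I.ideal (V i) ^ k • ⊤ ⊓ LinearMap.range (appLinear ι (V i).1)) := fun i => by
    haveI : IsNoetherianRing Γ(X, (V i).1) := IsLocallyNoetherian.component_noetherian (V i)
    haveI := moduleFinite_of_isFiniteType F hF.2 (V i).2
    exact Ideal.exists_pow_inf_eq_pow_smul (I.ideal (V i)) (LinearMap.range (appLinear ι (V i).1))
  choose k hk using hAR
  refine ⟨Finset.univ.sup k, fun n hn => ?_⟩
  let c := Finset.univ.sup k
  let π : ∀ m : ℕ, G ⟶ cokernel (Dual3.idealMulι (I ^ m) F) := fun m => ι ≫ cokernel.π (Dual3.idealMulι (I ^ m) F)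
  haveI hq : ∀ m, (cokernel (Dual3.idealMulι (I ^ m) F)).IsQuasicoherent := fun m =>
    haveI := isQuasicoherent_idealMul (I ^ m) hF.1
    QCoh.isQuasicoherent_cokernel _
  have hK : ∀ m, (kernel (π m)).IsQuasicoherent := fun m => QCoh.isQuasicoherent_kernel _
  let S := Subobject.mk (Dual3.idealMulι (I ^ c) F) ⊓ Subobject.mk ι
  let e : (Subobject.underlying.obj S : X.Modules) ≅ kernel (π c) :=
    Subobject.isoOfEqMk S (kernel.ι (π c) ≫ ι) (mk_inf_mk _ _)
  have he : e.hom ≫ kernel.ι (π c) ≫ ι = S.arrow := Subobject.ofLEMk_comp _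
  have h1 : Subobject.mk (Dual3.idealMulι (I ^ (n - c)) (Subobject.underlying.obj S) ≫ S.arrow) =
      Subobject.mk (Dual3.idealMulι (I ^ (n - c)) (kernel (π c)) ≫ kernel.ι (π c) ≫ ι) := by
    refine Subobject.mk_eq_mk_of_comm _ _ ((Dual3.idealMul (I ^ (n - c))).mapIso e) ?_
    rw [Functor.mapIso_hom, Dual3.idealMul_map_ι_assoc, he]
  refine h1.trans ?_
  rw [mk_inf_mk]
  refine subobject_eq_of_cover (isQuasicoherent_idealMul _ (hK c)) (hK n) hF.1 _ _ V hV fun i m => ?_
  have key : LinearMap.range (appLinear (Dual3.idealMulι (I ^ (n - c)) (kernel (π c)) ≫ kernel.ι (π c) ≫ ι) (V i).1) =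
      LinearMap.range (appLinear (kernel.ι (π n) ≫ ι) (V i).1) := by
    rw [range_comp_app, range_idealMulι _ (hK c), Submodule.map_smul'', Submodule.map_top, range_inter,
      range_inter, range_idealMulι _ hF.1, range_idealMulι _ hF.1]
    simp only [Scheme.IdealSheafData.ideal_pow, Pi.pow_apply]
    have hkc : k i ≤ c := Finset.le_sup (f := k) (Finset.mem_univ i)
    rw [hk i c hkc, hk i n (hkc.trans hn), ← Submodule.mul_smul, ← pow_add, show n - c + (c - k i) = n - k i from by omega]
  exact SetLike.ext_iff.1 key m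

variable {Y : Scheme.{u}}

/-- `I · f_* F = f_* ((f⁻¹ I O_Y) · F)`. -/
theorem exists_pushforward_iso (f : Y ⟶ X) [IsAffineHom f] {F : Y.Modules} (hF : F.IsQuasicoherent)
    (I : X.IdealSheafData) :
    ∃ e : (Dual3.idealMul I).obj ((Scheme.Modules.pushforward f).obj F) ≅
        (Scheme.Modules.pushforward f).obj ((Dual3.idealMul (I.comap f)).obj F),
      e.hom ≫ (Scheme.Modules.pushforward f).map (Dual3.idealMulι (I.comap f) F) =
        Dual3.idealMulι I ((Scheme.Modules.pushforward f).obj F) := by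
  haveI := hF
  haveI hfF : ((Scheme.Modules.pushforward f).obj F).IsQuasicoherent := QCoh.isQuasicoherent_pushforward f F
  haveI hIF := isQuasicoherent_idealMul (I.comap f) hF
  haveI hfIF : ((Scheme.Modules.pushforward f).obj ((Dual3.idealMul (I.comap f)).obj F)).IsQuasicoherent :=
    QCoh.isQuasicoherent_pushforward f _
  let a := Dual3.idealMulι I ((Scheme.Modules.pushforward f).obj F)
  let b := (Scheme.Modules.pushforward f).map (Dual3.idealMulι (I.comap f) F)
  haveI : Mono b := inferInstance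
  have key : ∀ (U : X.affineOpens) (m : Γ((Scheme.Modules.pushforward f).obj F, U.1)),
      (∃ w, a.app U.1 w = m) ↔ ∃ w, b.app U.1 w = m := by
    intro U m
    let P : Y.affineOpens := ⟨f ⁻¹ᵁ U.1, U.2.preimage f⟩
    refine (exists_app_idealMulι_iff I hfF U m).trans (Iff.trans ?_ (exists_app_idealMulι_iff (I.comap f) hF P m).symm)
    have hid : (I.comap f).ideal P = (I.ideal U).map (f.app U.1).hom := by
      rw [GrothLib.BlowUp.ideal_comap_eq_map I f U P le_rfl, Scheme.Hom.app_eq_appLE]
    rw [hid]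
    constructor
    · intro hm
      refine Submodule.smul_induction_on hm (fun r hr w _ => ?_) fun x y hx hy => add_mem hx hy
      exact Submodule.smul_mem_smul (Ideal.mem_map_of_mem _ hr) trivial
    · intro hm
      have main : ∀ r : Γ(Y, P.1), r ∈ (I.ideal U).map (f.app U.1).hom → ∀ w : Γ(F, P.1),
          (show Γ((Scheme.Modules.pushforward f).obj F, U.1) from r • w) ∈ I.ideal U •
            (⊤ : Submodule Γ(X, U.1) Γ((Scheme.Modules.pushforward f).obj F, U.1)) := by
        intro r hr
        induction hr using Submodule.span_induction with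
        | mem y hy =>
          obtain ⟨r, hr, rfl⟩ := hy
          intro w
          let w' : Γ((Scheme.Modules.pushforward f).obj F, U.1) := w
          exact Submodule.smul_mem_smul (n := w') hr trivial
        | zero => intro w; simp only [zero_smul]; exact zero_mem _
        | add y z _ _ hy hz => intro w; simp only [add_smul]; exact add_mem (hy w) (hz w)
        | smul c y _ hy => intro w; simp only [smul_eq_mul, mul_comm c y, mul_smul]; exact hy (c • w)
      exact Submodule.smul_induction_on (p := fun z : Γ(F, P.1) => (show Γ((Scheme.Modules.pushforward f).obj F, U.1) from z) ∈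
          I.ideal U • (⊤ : Submodule Γ(X, U.1) Γ((Scheme.Modules.pushforward f).obj F, U.1))) hm
        (fun r hr w _ => main r hr w) fun x y hx hy => add_mem hx hy
  have hc : ∀ x : X, ∃ U : X.affineOpens, x ∈ U.1 := fun x => by
    obtain ⟨U, hU, hx, -⟩ := Opens.isBasis_iff_nbhd.1 X.isBasis_affineOpens (Opens.mem_top x)
    exact ⟨⟨U, hU⟩, hx⟩
  obtain ⟨l, hl⟩ := exists_factor (isQuasicoherent_idealMul I hfF) hfIF hfF b a (fun U : X.affineOpens => U) hc
    fun U w => (key U _).1 ⟨w, rfl⟩
  obtain ⟨l', hl'⟩ := exists_factor hfIF (isQuasicoherent_idealMul I hfF) hfF a b (fun U : X.affineOpens => U) hc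
    fun U w => (key U _).2 ⟨w, rfl⟩
  exact ⟨⟨l, l', by rw [← cancel_mono a, Category.assoc, hl', Category.id_comp]; exact hl,
    by rw [← cancel_mono b, Category.assoc, hl, Category.id_comp]; exact hl'⟩, hl⟩

end GrothLib.IdealMul9
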