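import Groth.Agent.Lib.K0Sub.KerUnit
import Groth.Agent.Lib.FunMor20.KernelAffine
import Groth.Prelude.Def_Dual3

/-!
The submodule `I · F` of a quasi-coherent module on affine opens.
-/

universe u

open CategoryTheory CategoryTheory.Limits AlgebraicGeometry TopologicalSpace Opposite

noncomputable section

set_option backward.isDefEq.respectTransparency false

namespace GrothLib.IdealMul9

variable {X : Scheme.{u}}

theorem app_comp_apply {M N P : X.Modules} (φ : M ⟶ N) (ψ : N ⟶ P) (U : X.Opens) (m : Γ(M, U)) :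
    (φ ≫ ψ).app U m = ψ.app U (φ.app U m) := by
  rw [Scheme.Modules.Hom.comp_app]; rfl

theorem app_zero_apply {M N : X.Modules} (U : X.Opens) (m : Γ(M, U)) : (0 : M ⟶ N).app U m = 0 := rfl

theorem exists_app_kernel {M N : X.Modules} (φ : M ⟶ N) (U : X.Opens) (m : Γ(M, U)) :
    (∃ w, (kernel.ι φ).app U w = m) ↔ φ.app U m = 0 := by
  constructor
  · rintro ⟨w, rfl⟩
    rw [← app_comp_apply, kernel.condition]
    rfl
  · intro h
    obtain ⟨w', hS⟩ := QCoh.shortExact_kernel_image φ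
    refine QCoh.app_exact hS U m (Cohom.app_injective_of_mono (Abelian.image.ι φ) U ?_)
    rw [map_zero, ← app_comp_apply, Abelian.image.fac, h]

theorem isQuasicoherent_idealMul (J : X.IdealSheafData) {F : X.Modules} (hF : F.IsQuasicoherent) :
    ((Dual3.idealMul J).obj F).IsQuasicoherent :=
  haveI := hF
  haveI := K0Sub.isQuasicoherent_pushPull J.subschemeι F
  QCoh.isQuasicoherent_kernel (M := F) (N := (Scheme.Modules.pushforward J.subschemeι).obj ((Scheme.Modules.pullback J.subschemeι).obj F)) _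

theorem isCoh_idealMul [IsLocallyNoetherian X] (J : X.IdealSheafData) {F : X.Modules} (hF : Coh.IsCoh F) :
    Coh.IsCoh ((Dual3.idealMul J).obj F) :=
  QCoh.isCoh_kernel _ hF (K0Sub.isCoh_pushPull J.subschemeι hF)

/-- The sections of `J · F` on an affine open. -/
theorem exists_app_idealMulι_iff (J : X.IdealSheafData) {F : X.Modules} (hF : F.IsQuasicoherent)
    (U : X.affineOpens) (m : Γ(F, U.1)) :
    (∃ w, (Dual3.idealMulι J F).app U.1 w = m) ↔ m ∈ J.ideal U • (⊤ : Submodule Γ(X, U.1) Γ(F, U.1)) := by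
  haveI := hF
  refine (exists_app_kernel _ U.1 m).trans ?_
  have h := (K0Sub.app_unit_surjective_and_ker J.subschemeι F U).2 m
  rw [Scheme.IdealSheafData.ker_subschemeι] at h
  exact h

theorem app_idealMulι_mem (J : X.IdealSheafData) {F : X.Modules} (hF : F.IsQuasicoherent)
    (U : X.affineOpens) (w : Γ((Dual3.idealMul J).obj F, U.1)) :
    (Dual3.idealMulι J F).app U.1 w ∈ J.ideal U • (⊤ : Submodule Γ(X, U.1) Γ(F, U.1)) :=
  (exists_app_idealMulι_iff J hF U _).1 ⟨w, rfl⟩

theorem mono_of_injective_cover {M N : X.Modules} (hM : M.IsQuasicoherent) (hN : N.IsQuasicoherent)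
    (f : M ⟶ N) {ι : Type u} (U : ι → X.affineOpens) (hc : ∀ x, ∃ i, x ∈ (U i).1)
    (h : ∀ i, Function.Injective (f.app (U i).1)) : Mono f := by
  haveI := hM
  haveI := hN
  haveI := QCoh.isQuasicoherent_kernel f
  refine Preadditive.mono_of_kernel_zero ?_
  refine FunMor20.hom_ext_affine_cover (fun i => (U i).1) (fun i => (U i).2) hc fun i m => ?_
  refine h i ?_
  rw [← app_comp_apply, kernel.condition, app_zero_apply]
  exact ((congrArg _ (app_zero_apply _ m)).trans (map_zero _)).symm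

/-- A morphism factors through a quasi-coherent submodule if it does so on an affine cover. -/
theorem exists_factor {G H F : X.Modules} (hH : H.IsQuasicoherent) (hG : G.IsQuasicoherent)
    (hF : F.IsQuasicoherent) (ι' : G ⟶ F) [Mono ι'] (φ : H ⟶ F) {κ : Type u} (U : κ → X.affineOpens)
    (hc : ∀ x, ∃ i, x ∈ (U i).1) (h : ∀ i m, ∃ g, ι'.app (U i).1 g = φ.app (U i).1 m) :
    ∃ l : H ⟶ G, l ≫ ι' = φ := by
  haveI := hH
  haveI := hG
  haveI := hF
  haveI := QCoh.isQuasicoherent_cokernel ι'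
  have hz : φ ≫ cokernel.π ι' = 0 := by
    refine FunMor20.hom_ext_affine_cover (fun i => (U i).1) (fun i => (U i).2) hc fun i m => ?_
    obtain ⟨g, hg⟩ := h i m
    rw [app_comp_apply, ← hg, ← app_comp_apply, cokernel.condition]
    rfl
  exact ⟨Abelian.monoLift ι' φ hz, Abelian.monoLift_comp ι' φ hz⟩

theorem subobject_eq_of_cover {G₁ G₂ F : X.Modules} (h1 : G₁.IsQuasicoherent) (h2 : G₂.IsQuasicoherent)
    (hF : F.IsQuasicoherent) (f₁ : G₁ ⟶ F) [Mono f₁] (f₂ : G₂ ⟶ F) [Mono f₂] {κ : Type u}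
    (U : κ → X.affineOpens) (hc : ∀ x, ∃ i, x ∈ (U i).1)
    (h : ∀ i m, (∃ w, f₁.app (U i).1 w = m) ↔ ∃ w, f₂.app (U i).1 w = m) :
    Subobject.mk f₁ = Subobject.mk f₂ := by
  obtain ⟨a, ha⟩ := exists_factor h1 h2 hF f₂ f₁ U hc fun i m => (h i _).1 ⟨m, rfl⟩
  obtain ⟨b, hb⟩ := exists_factor h2 h1 hF f₁ f₂ U hc fun i m => (h i _).2 ⟨m, rfl⟩
  exact le_antisymm (Subobject.mk_le_mk_of_comm a ha) (Subobject.mk_le_mk_of_comm b hb)

theorem exists_le (J J' : X.IdealSheafData) (hle : J' ≤ J) {F : X.Modules} (hF : F.IsQuasicoherent) :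
    ∃ l : (Dual3.idealMul J').obj F ⟶ (Dual3.idealMul J).obj F, l ≫ Dual3.idealMulι J F = Dual3.idealMulι J' F := by
  refine exists_factor (isQuasicoherent_idealMul J' hF) (isQuasicoherent_idealMul J hF) hF _ _
    (fun U : X.affineOpens => U) (fun x => ?_) fun U m => ?_
  · obtain ⟨U, hU, hx, -⟩ := Opens.isBasis_iff_nbhd.1 X.isBasis_affineOpens (Opens.mem_top x)
    exact ⟨⟨U, hU⟩, hx⟩
  · exact (exists_app_idealMulι_iff J hF U _).2
      (Submodule.smul_mono_left (hle U) (app_idealMulι_mem J' hF U m))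

theorem exists_finite_cover (X : Scheme.{u}) [CompactSpace X] :
    ∃ (κ : Type u) (_ : Fintype κ) (U : κ → X.affineOpens), ∀ x, ∃ i, x ∈ (U i).1 := by
  obtain ⟨κ, hκ, V, hV, -, hc⟩ := QCoh.exists_finite_affine_cover (U := (⊤ : X.Opens))
    (by rw [Opens.coe_top]; exact isCompact_univ)
  exact ⟨κ, hκ, fun i => ⟨V i, hV i⟩, fun x => Opens.mem_iSup.1 (hc (Opens.mem_top x))⟩

end GrothLib.IdealMul9
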