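import Groth.Agent.Lib.QCoh.SchSupport
import Groth.Agent.Lib.FittSheaf.Basic
import Groth.Agent.Lib.FittSheaf.Pullback
import Groth.Agent.Lib.BlowUp.IdealComap
import Groth.Agent.Lib.QCoh.StalkPullback
import Mathlib.RingTheory.Flat.Localization

/-!
Annihilators and flat base change.
-/

set_option autoImplicit false
set_option backward.isDefEq.respectTransparency false
universe u

noncomputable section

open CategoryTheory CategoryTheory.Limits AlgebraicGeometry TopologicalSpace TensorProduct

namespace GrothLib.IdealMul9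

theorem annihilator_baseChange {A : Type u} [CommRing A] (B : Type u) [CommRing B] [Algebra A B] [Module.Flat A B]
    (M : Type u) [AddCommGroup M] [Module A M] [Module.Finite A M] :
    Module.annihilator B (B ⊗[A] M) = (Module.annihilator A M).map (algebraMap A B) := by
  classical
  refine le_antisymm (fun b hb => ?_) (Ideal.map_le_iff_le_comap.2 fun a ha => ?_)
  · obtain ⟨n, π, hπ⟩ := Module.Finite.exists_fin' A M
    let m : Fin n → M := fun i => π (Pi.single i 1)
    let v : A →ₗ[A] (Fin n → M) := LinearMap.toSpanSingleton A (Fin n → M) m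
    have hex : Function.Exact (Submodule.subtype (Module.annihilator A M)) v := fun a => by
      constructor
      · intro h
        refine ⟨⟨a, Module.mem_annihilator.2 fun x => ?_⟩, rfl⟩
        obtain ⟨c, rfl⟩ := hπ x
        rw [pi_eq_sum_univ' c, map_sum, Finset.smul_sum]
        refine Finset.sum_eq_zero fun i _ => ?_
        rw [map_smul, smul_comm]
        exact (congrArg (c i • ·) (congrFun h i)).trans (smul_zero _)
      · rintro ⟨⟨a', ha'⟩, rfl⟩
        exact funext fun i => Module.mem_annihilator.1 ha' (m i)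
    have h2 := Module.Flat.lTensor_exact B hex
    have hv : v.lTensor B (b ⊗ₜ[A] (1 : A)) = 0 := by
      apply (TensorProduct.piRight A A B (fun _ : Fin n => M)).injective
      rw [map_zero]
      funext i
      show (TensorProduct.piRight A A B fun _ : Fin n => M) (b ⊗ₜ[A] ((1 : A) • m)) i = 0
      rw [one_smul, TensorProduct.piRight_apply, TensorProduct.piRightHom_tmul]
      have := Module.mem_annihilator.1 hb ((1 : B) ⊗ₜ[A] m i)
      rwa [TensorProduct.smul_tmul', smul_eq_mul, mul_one] at this
    obtain ⟨z, hz⟩ := (h2 _).1 hv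
    have hb' : b = TensorProduct.rid A B ((Submodule.subtype (Module.annihilator A M)).lTensor B z) := by
      rw [hz, TensorProduct.rid_tmul, one_smul]
    rw [hb']
    clear hz hb'
    induction z using TensorProduct.induction_on with
    | zero => rw [map_zero, map_zero]; exact zero_mem _
    | tmul c a =>
      rw [LinearMap.lTensor_tmul, TensorProduct.rid_tmul, Algebra.smul_def]
      exact Ideal.mul_mem_right _ _ (Ideal.mem_map_of_mem _ a.2)
    | add x y hx hy => rw [map_add, map_add]; exact add_mem hx hy
  · refine Module.mem_annihilator.2 fun z => ?_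
    induction z using TensorProduct.induction_on with
    | zero => exact smul_zero _
    | tmul c x => rw [algebraMap_smul, ← TensorProduct.tmul_smul, Module.mem_annihilator.1 ha x, TensorProduct.tmul_zero]
    | add x y hx hy => rw [smul_add, hx, hy, add_zero]

variable {X : Scheme.{u}}

theorem map_germ_annihilator (M : X.Modules) [M.IsQuasicoherent] {U : X.Opens} (hU : IsAffineOpen U)
    [Module.Finite Γ(X, U) Γ(M, U)] {x : X} (hx : x ∈ U) :
    (Module.annihilator Γ(X, U) Γ(M, U)).map (X.presheaf.germ U x hx).hom =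
      Module.annihilator (X.presheaf.stalk x) (M.presheaf.stalk x) := by
  letI := X.presheaf.algebra_section_stalk ⟨x, hx⟩
  haveI := FlatFP.isLocalization_stalk_primeAt hU hx
  letI : Module Γ(X, U) (M.presheaf.stalk x) := Module.compHom _ (X.presheaf.germ U x hx).hom
  haveI : IsScalarTower Γ(X, U) (X.presheaf.stalk x) (M.presheaf.stalk x) :=
    IsScalarTower.of_algebraMap_smul fun _ _ => rfl
  obtain ⟨g, hg, -⟩ := FlatFP.isLocalizedModule_germ M hU hx
  haveI : Module.Flat Γ(X, U) (X.presheaf.stalk x) :=
    IsLocalization.flat (X.presheaf.stalk x) (WeakAss.primeAt x hx).primeCompl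
  have e := (IsLocalizedModule.isBaseChange (WeakAss.primeAt x hx).primeCompl (X.presheaf.stalk x) g).equiv
  rw [← e.annihilator_eq, annihilator_baseChange]
  rfl

theorem ann_pullback {Y : Scheme.{u}} (f : Y ⟶ X) [Flat f] (F : X.Modules) [F.IsQuasicoherent]
    (hft : CohB1.IsFT F) (J : X.IdealSheafData)
    (hJ : ∀ U : X.affineOpens, J.ideal U = Module.annihilator Γ(X, U.1) Γ(F, U.1)) (V : Y.affineOpens) :
    (J.comap f).ideal V = Module.annihilator Γ(Y, V.1) Γ((Scheme.Modules.pullback f).obj F, V.1) := by
  let G := (Scheme.Modules.pullback f).obj F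
  haveI : G.IsQuasicoherent := FittSheaf.isQuasicoherent_pullback f F
  have hft' : CohB1.IsFT G :=
    (QCoh.isFiniteType_iff_moduleFinite _).2 fun W hW => FittSheaf.moduleFinite_pullback f F hft hW
  suffices h : J.comap f = QCoh.annIdeal G hft' by rw [h]; rfl
  refine Scheme.IdealSheafData.ext_of_iSup_eq_top
    (fun p : {p : X.affineOpens × Y.affineOpens // p.2.1 ≤ f ⁻¹ᵁ p.1.1} => p.1.2)
    (FittSheaf.exists_cover f) fun p => ?_
  refine FittSheaf.ideal_eq_of_germ p.1.2.2 fun y hy => ?_
  haveI := QCoh.moduleFinite_of_isFiniteType G hft' p.1.2.2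
  rw [GrothLib.BlowUp.ideal_comap_eq_map _ f p.1.1 p.1.2 p.2, Ideal.map_map, QCoh.annIdeal_ideal,
    map_germ_annihilator G p.1.2.2 hy, hJ]
  have hfy : f y ∈ p.1.1.1 := p.2 hy
  haveI := QCoh.moduleFinite_of_isFiniteType F hft p.1.1.2
  have hring : (Y.presheaf.germ p.1.2.1 y hy).hom.comp (f.appLE p.1.1.1 p.1.2.1 p.2).hom =
      (f.stalkMap y).hom.comp (X.presheaf.germ p.1.1.1 (f y) hfy).hom := by
    refine RingHom.ext fun a => ?_
    show Y.presheaf.germ p.1.2.1 y hy (f.appLE p.1.1.1 p.1.2.1 p.2 a) = f.stalkMap y (X.presheaf.germ p.1.1.1 (f y) hfy a)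
    rw [Scheme.Hom.germ_stalkMap_apply]
    exact TopCat.Presheaf.germ_res_apply Y.presheaf (homOfLE p.2) y hy _
  rw [hring, ← Ideal.map_map, map_germ_annihilator F p.1.1.2 hfy]
  let φ := (f.stalkMap y).hom
  let _ := φ.toAlgebra
  haveI := FittSheaf.finite_stalk hft (f y)
  haveI : Module.Flat (X.presheaf.stalk (f y)) (Y.presheaf.stalk y) := Flat.stalkMap f y
  let e : TensorProduct (X.presheaf.stalk (f y)) (Y.presheaf.stalk y) (F.presheaf.stalk (f y)) ≃ₗ[Y.presheaf.stalk y]
      G.presheaf.stalk y :=
    ((QCoh.stalkPullbackIso f y).app F).toLinearEquiv.symm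
  rw [← e.annihilator_eq, annihilator_baseChange]
  rfl

end GrothLib.IdealMul9
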