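import Groth.Agent.Lib.IdealMul9.Hom
import Groth.Agent.Lib.CohHom9.StalkLift
import Groth.Agent.Lib.QCoh.DevissageExt
import Groth.Agent.Lib.K0Sub.Killed
import Groth.Agent.Lib.DegDet.Stalk
import Groth.Agent.Lib.Euler.Rank
import Groth.Agent.Lib.Ref1.Powers
import Groth.Agent.Lib.LocFreeHom.Basic
import Groth.Agent.Lib.FormalFun.Stalk

/-!
A coherent module killed at a generic point contains a power of an ideal there.
-/

set_option autoImplicit false
set_option maxHeartbeats 800000
set_option backward.isDefEq.respectTransparency false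
universe u

noncomputable section

open CategoryTheory CategoryTheory.Limits AlgebraicGeometry TopologicalSpace Opposite

namespace GrothLib.IdealMul9

open GrothLib.QCoh

attribute [local instance] Abelian.hasFiniteBiproducts

variable {X : Scheme.{u}}

theorem bijective_stalk_push_map {Z : Scheme.{u}} (i : Z ⟶ X) [IsClosedImmersion i] {M N : Z.Modules}
    (ψ : M ⟶ N) (z : Z) (h : Function.Bijective (stalkLin ψ z)) :
    Function.Bijective (stalkLin ((Coh.push i).map ψ) (i z)) := by
  let p : ∀ K : Z.Modules, ((Coh.push i).obj K).presheaf.stalk (i z) ⟶ K.presheaf.stalk z := fun K =>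
    TopCat.Presheaf.stalkPushforward Ab.{u} i.base K.presheaf z
  have hp : ∀ K : Z.Modules, Function.Bijective (p K) := fun K => by
    haveI := TopCat.Presheaf.stalkPushforward.stalkPushforward_iso_of_isInducing (C := Ab.{u})
      i.isClosedEmbedding.isInducing K.presheaf z
    exact ConcreteCategory.bijective_of_isIso (p K)
  have hnat : ∀ v, p N (stalkLin ((Coh.push i).map ψ) (i z) v) = stalkLin ψ z (p M v) := fun v => by
    obtain ⟨V, hV, s, rfl⟩ := TopCat.Presheaf.exists_germ_eq ((Coh.push i).obj M).presheaf v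
    rw [stalkLin_germ]
    refine (ConcreteCategory.congr_hom (TopCat.Presheaf.stalkPushforward_germ Ab.{u} i.base N.presheaf V z hV) _).trans ?_
    rw [show p M (((Coh.push i).obj M).presheaf.germ V (i z) hV s) = M.presheaf.germ (i ⁻¹ᵁ V) z hV s from
      ConcreteCategory.congr_hom (TopCat.Presheaf.stalkPushforward_germ Ab.{u} i.base M.presheaf V z hV) s]
    exact (stalkLin_germ ψ hV s).symm
  have e : ⇑(p N) ∘ ⇑(stalkLin ((Coh.push i).map ψ) (i z)) = ⇑(stalkLin ψ z) ∘ ⇑(p M) := funext hnat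
  exact (Function.Bijective.of_comp_iff' (hp N) _).1 (e ▸ h.comp (hp M))

theorem stalkLin_eq_of_restrict_eq {M N : X.Modules} {U : X.Opens} {f : M ⟶ N}
    {φ : (Scheme.Modules.restrictFunctor U.ι).obj M ⟶ (Scheme.Modules.restrictFunctor U.ι).obj N}
    (h : (Scheme.Modules.restrictFunctor U.ι).map f = φ) {x : X} (hx : x ∈ U) (v : M.presheaf.stalk x) :
    stalkLin f x v = ((Scheme.Modules.restrictStalkNatIso U.ι (⟨x, hx⟩ : U)).inv.app M ≫
          (TopCat.Presheaf.stalkFunctor _ (⟨x, hx⟩ : U)).map φ.mapPresheaf ≫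
            (Scheme.Modules.restrictStalkNatIso U.ι (⟨x, hx⟩ : U)).hom.app N) v := by
  subst h
  have hn := (Scheme.Modules.restrictStalkNatIso U.ι (⟨x, hx⟩ : U)).inv.naturality f
  have h2 : (Scheme.Modules.restrictStalkNatIso U.ι (⟨x, hx⟩ : U)).inv.app M ≫
      (TopCat.Presheaf.stalkFunctor _ (⟨x, hx⟩ : U)).map
        ((Scheme.Modules.restrictFunctor U.ι).map f).mapPresheaf ≫
        (Scheme.Modules.restrictStalkNatIso U.ι (⟨x, hx⟩ : U)).hom.app N =
      (TopCat.Presheaf.stalkFunctor _ x).map f.mapPresheaf := by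
    rw [← Category.assoc]
    refine (congrArg (· ≫ _) hn.symm).trans ?_
    rw [Category.assoc, Iso.inv_hom_id_app]
    exact Category.comp_id _
  exact ((ConcreteCategory.congr_hom h2) v).symm

theorem stalk_eq_zero_or {M : X.Modules} [IsIntegral X] {r : ℕ} (j : M ⟶ FlatMod.freeMod X r) [Mono j]
    {W : X.Opens} (hη : genericPoint X ∈ W) (s : Γ(M, W))
    (h : M.presheaf.germ W (genericPoint X) hη s = 0) : s = 0 := by
  classical
  refine Cohom.app_injective_of_mono j W ?_
  rw [map_zero]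
  obtain ⟨W', hηW', i₁, i₂, heq⟩ := TopCat.Presheaf.germ_eq M.presheaf (genericPoint X) hη hη s 0
    (h.trans (map_zero _).symm)
  rw [map_zero] at heq
  have hz : ∀ k, (FinCov.proj X r k).app W (j.app W s) = 0 := fun k => by
    haveI : Nonempty (W' : Scheme.{u}) := ⟨⟨_, hηW'⟩⟩
    refine map_injective_of_isIntegral X i₁ ?_
    rw [map_zero]
    have n1 := NatTrans.naturality_apply (j ≫ FinCov.proj X r k).mapPresheaf i₁.op s
    refine Eq.trans ?_ ((congrArg ((j ≫ FinCov.proj X r k).app W') heq).trans (map_zero _))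
    exact n1.symm
  have h2 := congrArg (fun ψ : FlatMod.freeMod X r ⟶ FlatMod.freeMod X r => ψ.app W (j.app W s))
    (FinCov.sum_proj_ι (X := X) (n := r))
  refine h2.symm.trans ?_
  rw [FinCov.sum_app]
  refine Finset.sum_eq_zero fun k _ => ?_
  rw [app_comp_apply, hz k, map_zero]

theorem exists_generic_piece [IsNoetherian X] {Z : Scheme.{u}} (i : Z ⟶ X) [IsClosedImmersion i] [IsIntegral Z]
    (F : X.Modules) (hF : Coh.IsCoh F)
    (hann : ∀ a ∈ IsLocalRing.maximalIdeal (X.presheaf.stalk (i (genericPoint Z))),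
      ∀ m : ↑(F.presheaf.stalk (i (genericPoint Z))), a • m = 0) :
    ∃ (r : ℕ) (I : Z.Modules) (ι : I ⟶ Coh.structureModule Z) (φ : (Coh.push i).obj (∐ fun _ : Fin r => I) ⟶ F),
      Mono ι ∧ Coh.IsCoh I ∧ Mono φ ∧
      ∃ U : X.Opens, i (genericPoint Z) ∈ U ∧ IsIso ((Scheme.Modules.restrictFunctor U.ι).map φ) := by
  classical
  haveI : IsLocallyNoetherian Z := LocallyOfFiniteType.isLocallyNoetherian i
  haveI : CompactSpace Z := QuasiCompact.compactSpace_of_compactSpace i
  haveI : IsNoetherian Z := {}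
  haveI := hF.1
  let G := (killed F i.ker).obj
  have hG : Coh.IsCoh G := killed_isCoh F hF i.ker
  have hk : ClSub.KilledByIdeal i.ker G := killed_killedByIdeal F i.ker
  haveI := hG.1
  haveI : Mono (killed F i.ker).ι := mono_of_app_injective _ (killed F i.ker).ι_app_injective
  have hb : Function.Bijective (stalkLin (killed F i.ker).ι (i (genericPoint Z))) := by
    refine ⟨stalkLin_injective _ _, ?_⟩
    rw [ker_eq_vanishingIdeal_closure i]
    exact killed_stalk_surjective F _ hann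
  let M := (Scheme.Modules.pullback i).obj G
  have hM : Coh.IsCoh M := K0Sub.isCoh_pullback i ⟨hG, hk⟩
  haveI := isIso_unit_of_killed i G hk
  let eG : G ≅ (Coh.push i).obj M := asIso ((Scheme.Modules.pullbackPushforwardAdjunction i).unit.app G)
  let η := genericPoint Z
  haveI : Module.Finite (Z.presheaf.stalk η) (M.presheaf.stalk η) := QCoh.stalk_finite M hM η
  let K := Z.functionField
  haveI : Module.Free (Z.presheaf.stalk η) (M.presheaf.stalk η) :=
    Module.Free.of_divisionRing (K := Z.functionField) (V := M.presheaf.stalk η)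
  let r := Fintype.card (Module.Free.ChooseBasisIndex (Z.presheaf.stalk η) (M.presheaf.stalk η))
  let bM := (Module.Free.chooseBasis (Z.presheaf.stalk η) (M.presheaf.stalk η)).reindex (Fintype.equivFin _)
  obtain ⟨bO⟩ := Euler.stalk_basis_of_frame (DegDet.isFrame_freeSec Z r) (show η ∈ (⊤ : Z.Opens) from trivial)
  let θ := bO.equiv bM (Equiv.refl _)
  have hO := DegDet.isCoh_freeMod Z r
  obtain ⟨V, hV, φ₀, hφ₀⟩ := CohHom9.exists_hom_restrict M (FlatMod.freeMod Z r) hO η θ.toLinearMap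
  let C : Closeds Z := ⟨(V : Set Z)ᶜ, V.isOpen.isClosed_compl⟩
  let J := Scheme.IdealSheafData.vanishingIdeal C
  have hJ : (V : Set Z) = (J.support : Set Z)ᶜ := by
    rw [Scheme.IdealSheafData.coe_support_vanishingIdeal, show (C : Set Z) = (V : Set Z)ᶜ from rfl,
      compl_compl]
  obtain ⟨n, ψ, hψ⟩ := exists_lift_pow hM.1 hO J V hJ φ₀
  let N := (Dual3.idealMul (J ^ n)).obj (FlatMod.freeMod Z r)
  let j : N ⟶ FlatMod.freeMod Z r := Dual3.idealMulι (J ^ n) (FlatMod.freeMod Z r)
  have hNq := isQuasicoherent_idealMul (J ^ n) hO.1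
  -- the inclusion is bijective at the generic point
  have hjb : Function.Bijective (stalkLin j η) := by
    refine ⟨stalkLin_injective j η, fun v => ?_⟩
    obtain ⟨W₀, hW, hηW, hWV⟩ := Opens.isBasis_iff_nbhd.1 Z.isBasis_affineOpens hV
    let W : Z.affineOpens := ⟨W₀, hW⟩
    have htop : J.ideal W = ⊤ := by
      by_contra hne
      obtain ⟨P, hP, hle⟩ := Ideal.exists_le_maximal _ hne
      have hmem : W.2.fromSpec ⟨P, hP.isPrime⟩ ∈ (W.1 : Set Z) := W.2.range_fromSpec ▸ ⟨_, rfl⟩
      have hsup : W.2.fromSpec ⟨P, hP.isPrime⟩ ∈ (J.support : Set Z) := by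
        refine ((J.coe_support_inter W).ge ⟨?_, hmem⟩).1
        have := W.2.fromSpec_image_zeroLocus (J.ideal W : Set Γ(Z, W.1))
        exact (this ▸ ⟨⟨P, hP.isPrime⟩, hle, rfl⟩ : _ ∈ Z.zeroLocus (U := W.1) (J.ideal W : Set Γ(Z, W.1)) ∩ W.1).1
      have hV' : W.2.fromSpec ⟨P, hP.isPrime⟩ ∈ (V : Set Z) := hWV hmem
      rw [hJ] at hV'
      exact hV' hsup
    haveI := hO.1
    obtain ⟨c, z, hc, hz⟩ := WeakAss.exists_smul_eq_germ W.2 hηW v
    obtain ⟨w, hw⟩ := (exists_app_idealMulι_iff (J ^ n) hO.1 W z).2 (by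
      rw [Scheme.IdealSheafData.ideal_pow, Pi.pow_apply, htop, ← Ideal.one_eq_top, one_pow, Ideal.one_eq_top,
        Submodule.top_smul]
      trivial)
    have hu : IsUnit (Z.presheaf.germ W.1 η hηW c) :=
      (Scheme.mem_basicOpen _ c η hηW).mp (WeakAss.notMem_primeAt_iff.mp hc)
    refine ⟨((hu.unit⁻¹ : _ˣ) : Z.presheaf.stalk η) • N.presheaf.germ W.1 η hηW w, ?_⟩
    rw [map_smul, stalkLin_germ, hw, ← hz, smul_smul, IsUnit.val_inv_mul, one_smul]
  have hψb : ∀ v, stalkLin ψ η v = θ (stalkLin j η v) := fun v => by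
    have h1 := stalkLin_eq_of_restrict_eq hψ hV v
    refine h1.trans (Eq.trans ?_ (ConcreteCategory.congr_hom hφ₀ (stalkLin j η v)))
    have h3 := stalkLin_eq_of_restrict_eq (f := j) rfl hV v
    rw [h3, ← ConcreteCategory.comp_apply]
    congr 1
    rw [show ∀ {A B C : (V : Scheme.{u}).Modules} (a : A ⟶ B) (b : B ⟶ C),
      (a ≫ b).mapPresheaf = a.mapPresheaf ≫ b.mapPresheaf from fun _ _ => rfl, Functor.map_comp]
    simp only [Category.assoc, Iso.hom_inv_id_app_assoc]
    rfl
  have hψη : Function.Bijective (stalkLin ψ η) := by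
    rw [show ⇑(stalkLin ψ η) = ⇑θ ∘ ⇑(stalkLin j η) from funext hψb]
    exact θ.bijective.comp hjb
  haveI : Mono ψ := by
    refine mono_of_injective_cover hNq hM.1 ψ (fun U : Z.affineOpens => U) (fun x => ?_) fun U a b hab => ?_
    · obtain ⟨U, hU, hx, -⟩ := Opens.isBasis_iff_nbhd.1 Z.isBasis_affineOpens (Opens.mem_top x)
      exact ⟨⟨U, hU⟩, hx⟩
    · rcases isEmpty_or_nonempty ((U.1 : Z.Opens) : Scheme.{u}) with hU | hU
      · exact TopCat.Presheaf.section_ext ⟨N.presheaf, N.isSheaf⟩ U.1 a b fun y hy => hU.elim ⟨y, hy⟩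
      · have hηU : η ∈ U.1 := ((genericPoint_spec Z).mem_open_set_iff U.1.isOpen).2
          ⟨hU.some.1, trivial, hU.some.2⟩
        rw [← sub_eq_zero]
        refine stalk_eq_zero_or j hηU _ (hψη.1 ?_)
        rw [stalkLin_germ, map_sub, hab, sub_self, map_zero, map_zero]
  let I := (Dual3.idealMul (J ^ n)).obj (Coh.structureModule Z)
  have hI : Coh.IsCoh I := isCoh_idealMul (J ^ n) (HomSh.isCoh_structureModule Z)
  let e : (∐ fun _ : Fin r => I) ≅ N :=
    (biproduct.isoCoproduct _).symm ≪≫ ((Dual3.idealMul (J ^ n)).mapBiproduct fun _ : Fin r => Coh.structureModule Z).symm ≪≫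
      (Dual3.idealMul (J ^ n)).mapIso (biproduct.isoCoproduct _)
  haveI : Mono (e.hom ≫ ψ) := mono_comp _ _
  haveI : Mono ((Coh.push i).map (e.hom ≫ ψ)) :=
    mono_of_app_injective _ fun U ↦ Cohom.app_injective_of_mono (e.hom ≫ ψ) (i ⁻¹ᵁ U)
  let φ : (Coh.push i).obj (∐ fun _ : Fin r => I) ⟶ F :=
    (Coh.push i).map (e.hom ≫ ψ) ≫ eG.inv ≫ (killed F i.ker).ι
  haveI : Mono φ := mono_comp _ _
  have hiso : ∀ {A B : X.Modules} (a : A ≅ B) (x : X), Function.Bijective (stalkLin a.hom x) := fun a x =>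
    ((OX.stalk x).mapIso a).toLinearEquiv.bijective
  have hisoZ : Function.Bijective (stalkLin e.hom η) := ((OX.stalk η).mapIso e).toLinearEquiv.bijective
  have hφb : Function.Bijective (stalkLin φ (i η)) := by
    have h1 : Function.Bijective (stalkLin (e.hom ≫ ψ) η) := by
      rw [show ⇑(stalkLin (e.hom ≫ ψ) η) = ⇑(stalkLin ψ η) ∘ ⇑(stalkLin e.hom η) from
        funext (stalkLin_comp e.hom ψ η)]
      exact hψη.comp hisoZ
    have h2 := bijective_stalk_push_map i (e.hom ≫ ψ) η h1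
    rw [show ⇑(stalkLin φ (i η)) = ⇑(stalkLin (killed F i.ker).ι (i η)) ∘ ⇑(stalkLin eG.inv (i η)) ∘
        ⇑(stalkLin ((Coh.push i).map (e.hom ≫ ψ)) (i η)) from funext fun v => by
      refine (stalkLin_comp ((Coh.push i).map (e.hom ≫ ψ)) (eG.inv ≫ (killed F i.ker).ι) (i η) v).trans ?_
      exact stalkLin_comp eG.inv (killed F i.ker).ι (i η) _]
    exact hb.comp ((hiso eG.symm _).comp h2)
  have hPq : Coh.IsCoh ((Coh.push i).obj (∐ fun _ : Fin r => I)) := by
    have hN : Coh.IsCoh (∐ fun _ : Fin r => I) := QCoh.isCoh_of_iso e.symm (isCoh_idealMul (J ^ n) hO)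
    haveI := hN.1
    exact ⟨isQuasicoherent_pushforward i _, isFiniteType_pushforward i _ hN.2⟩
  have hC := isCoh_cokernel φ hPq hF
  let U : X.Opens := ⟨(CohB1.support (cokernel φ))ᶜ, (isClosed_support_of_isCoh hC).isOpen_compl⟩
  refine ⟨r, I, Dual3.idealMulι (J ^ n) _, φ, inferInstance, hI, inferInstance, U,
    notMem_support_cokernel_of_surjective φ hφb.2, Ref1.isIso_restrict_of_bijective φ U fun x hx => ?_⟩
  refine ⟨stalkLin_injective φ x, fun v => ?_⟩
  haveI := stalk_subsingleton_of_notMem (hx : x ∉ CohB1.support (cokernel φ))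
  exact (ShortComplex.moduleCat_exact_iff _).1
    ((OX.exact_iff (ShortComplex.mk φ (cokernel.π φ) (cokernel.condition φ))).1 (ShortComplex.exact_cokernel φ) x) v
    (Subsingleton.elim (α := (cokernel φ).presheaf.stalk x) _ _)

end GrothLib.IdealMul9
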