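import Groth.Agent.Lib.IdealMul9.Basic
import Groth.Agent.Lib.QCoh.AvoidSub
import Groth.Agent.Lib.FTIdeals9.Basic
import Groth.Agent.Lib.Cohom.Serre

/-!
Morphisms on the complement of a closed subscheme and powers of its ideal.
-/

universe u

open CategoryTheory CategoryTheory.Limits AlgebraicGeometry TopologicalSpace Opposite

noncomputable section

set_option backward.isDefEq.respectTransparency false

namespace GrothLib.IdealMul9

open GrothLib.QCoh

variable {X : Scheme.{u}}

theorem app_eq_of_restrict_eq {M N : X.Modules} {U : X.Opens} (f g : M ⟶ N)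
    (h : (Scheme.Modules.restrictFunctor U.ι).map f = (Scheme.Modules.restrictFunctor U.ι).map g)
    {W : X.Opens} (hW : W ≤ U) (m : Γ(M, W)) : f.app W m = g.app W m := by
  obtain ⟨V, rfl⟩ : ∃ V, W = U.ι ''ᵁ V := ⟨U.ι ⁻¹ᵁ W, by
    rw [Scheme.Hom.image_preimage_eq_opensRange_inf, Scheme.Opens.opensRange_ι]
    exact (inf_eq_right.2 hW).symm⟩
  exact congrArg (fun φ => Scheme.Modules.Hom.app φ V m) h

theorem basicOpen_le_compl (I : X.IdealSheafData) {U : X.Opens} (hU : (U : Set X) = (I.support : Set X)ᶜ)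
    (V : X.affineOpens) {a : Γ(X, V.1)} (ha : a ∈ I.ideal V) : X.basicOpen a ≤ U := by
  intro x hx
  rw [← SetLike.mem_coe, hU]
  intro hxI
  have h := (Scheme.IdealSheafData.mem_support_iff_of_mem (X.basicOpen_le a hx)).1 hxI
  exact (Scheme.mem_zeroLocus_iff _ _ _).1 h a ha hx

theorem exists_pow_mul_mem {R M : Type*} [CommRing R] [AddCommGroup M] [Module R M] {I : Ideal R} (hI : I.FG)
    [Module.Finite R M] (P : Submodule R M) (h : ∀ a ∈ I, ∀ m : M, ∃ l : ℕ, a ^ l • m ∈ P) :
    ∃ n : ℕ, I ^ n • (⊤ : Submodule R M) ≤ P := by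
  classical
  obtain ⟨s, hs⟩ := Module.Finite.fg_top (R := R) (M := M)
  have hrad : I ≤ (P.colon (s : Set M)).radical := by
    intro a ha
    choose l hl using h a ha
    refine ⟨s.sup l, Submodule.mem_colon.2 fun m hm => ?_⟩
    obtain ⟨k, hk⟩ := Nat.exists_eq_add_of_le (Finset.le_sup (f := l) hm)
    rw [hk, pow_add, mul_comm, mul_smul]
    exact P.smul_mem _ (hl m)
  obtain ⟨n, hn⟩ := Ideal.exists_pow_le_of_le_radical_of_fg hrad hI
  refine ⟨n, Submodule.smul_le.2 fun r hr m hm => ?_⟩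
  rw [← hs] at hm
  induction hm using Submodule.span_induction with
  | mem y hy => exact Submodule.mem_colon.1 (hn hr) y hy
  | zero => rw [smul_zero]; exact P.zero_mem
  | add y z _ _ hy hz => rw [smul_add]; exact P.add_mem hy hz
  | smul c y _ hy => rw [smul_comm]; exact P.smul_mem c hy

/-- A morphism vanishing off `V(I)` kills a power of `I`. -/
theorem exists_pow_kills [IsNoetherian X] {H F : X.Modules} (hH : Coh.IsCoh H) (hF : F.IsQuasicoherent)
    (I : X.IdealSheafData) (U : X.Opens) (hU : (U : Set X) = (I.support : Set X)ᶜ) (ψ : H ⟶ F)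
    (hψ : (Scheme.Modules.restrictFunctor U.ι).map ψ = 0) {κ : Type u} [Fintype κ] (V : κ → X.affineOpens) :
    ∃ k : ℕ, ∀ i, ∀ r ∈ I.ideal (V i) ^ k, ∀ m : Γ(H, (V i).1), r • ψ.app (V i).1 m = 0 := by
  haveI := hH.1
  haveI := hF
  have hk : ∀ i, ∃ k : ℕ, I.ideal (V i) ^ k • (⊤ : Submodule Γ(X, (V i).1) Γ(H, (V i).1)) ≤
      LinearMap.ker (appLinear ψ (V i).1) := fun i => by
    haveI : IsNoetherianRing Γ(X, (V i).1) := IsLocallyNoetherian.component_noetherian (V i)
    haveI := moduleFinite_of_isFiniteType H hH.2 (V i).2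
    refine exists_pow_mul_mem (IsNoetherian.noetherian _) _ fun a ha m => ?_
    have h0 : F.presheaf.map (homOfLE (X.basicOpen_le a)).op (ψ.app (V i).1 m) = 0 := by
      have h := app_eq_of_restrict_eq ψ 0 (by rw [hψ, Functor.map_zero]) (basicOpen_le_compl I hU (V i) ha)
        (H.presheaf.map (homOfLE (X.basicOpen_le a)).op m)
      exact ((NatTrans.naturality_apply ψ.mapPresheaf (homOfLE (X.basicOpen_le a)).op m).symm.trans h)
    obtain ⟨l, hl⟩ := (smulLift_and_smulSep_of_isAffineOpen (V i).2 F a).2 _ h0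
    exact ⟨l, LinearMap.mem_ker.2 ((Scheme.Modules.Hom.app_smul ψ _ m).trans hl)⟩
  choose k hk using hk
  refine ⟨Finset.univ.sup k, fun i r hr m => ?_⟩
  refine ((appLinear ψ (V i).1).map_smul r m).symm.trans ?_
  exact LinearMap.mem_ker.1 (hk i (Submodule.smul_mem_smul
    (Ideal.pow_le_pow_right (Finset.le_sup (f := k) (Finset.mem_univ i)) hr) trivial))

theorem pow_le_pow (I : X.IdealSheafData) {m n : ℕ} (h : n ≤ m) : I ^ m ≤ I ^ n := fun U => by
  rw [Scheme.IdealSheafData.ideal_pow, Scheme.IdealSheafData.ideal_pow]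
  exact Ideal.pow_le_pow_right h

/-- Uniqueness of extensions up to a power of the ideal. -/
theorem exists_pow_restrict_eq_zero [IsNoetherian X] {F G : X.Modules} (hF : F.IsQuasicoherent)
    (hG : Coh.IsCoh G) (I : X.IdealSheafData) (U : X.Opens) (hU : (U : Set X) = (I.support : Set X)ᶜ) (n : ℕ)
    (ψ : (Dual3.idealMul (I ^ n)).obj G ⟶ F) (hψ : (Scheme.Modules.restrictFunctor U.ι).map ψ = 0) :
    ∃ (N : ℕ) (ι : (Dual3.idealMul (I ^ N)).obj G ⟶ (Dual3.idealMul (I ^ n)).obj G),
      ι ≫ Dual3.idealMulι (I ^ n) G = Dual3.idealMulι (I ^ N) G ∧ ι ≫ ψ = 0 := by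
  have hH := isCoh_idealMul (I ^ n) hG
  obtain ⟨κ, hκ, V, hV⟩ := exists_finite_cover X
  obtain ⟨k, hk⟩ := exists_pow_kills hH hF I U hU ψ hψ V
  obtain ⟨l, hl⟩ := exists_le (I ^ n) (I ^ (k + n)) (pow_le_pow I (Nat.le_add_left n k)) hG.1
  refine ⟨k + n, l, hl, ?_⟩
  haveI := isQuasicoherent_idealMul (I ^ (k + n)) hG.1
  haveI := hF
  refine FunMor20.hom_ext_affine_cover (fun i => (V i).1) (fun i => (V i).2) hV fun i m => ?_
  rw [app_comp_apply]
  have h1 := app_idealMulι_mem (I ^ (k + n)) hG.1 (V i) m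
  rw [← hl, app_comp_apply, Scheme.IdealSheafData.ideal_pow, Pi.pow_apply, pow_add, Submodule.mul_smul] at h1
  have hle : I.ideal (V i) ^ k • (I.ideal (V i) ^ n • (⊤ : Submodule Γ(X, (V i).1) Γ(G, (V i).1))) ≤
      Submodule.map (appLinear (Dual3.idealMulι (I ^ n) G) (V i).1) (LinearMap.ker (appLinear ψ (V i).1)) := by
    refine Submodule.smul_le.2 fun r hr s hs => ?_
    obtain ⟨w, rfl⟩ := (exists_app_idealMulι_iff (I ^ n) hG.1 (V i) s).2
      (by rwa [Scheme.IdealSheafData.ideal_pow])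
    exact ⟨r • w, LinearMap.mem_ker.2 ((Scheme.Modules.Hom.app_smul ψ r w).trans (hk i r hr w)),
      Scheme.Modules.Hom.app_smul _ r w⟩
  obtain ⟨w, hw, hw'⟩ := hle h1
  rw [show l.app (V i).1 m = w from Cohom.app_injective_of_mono (Dual3.idealMulι (I ^ n) G) (V i).1 hw'.symm]
  exact hw

/-- Extensions up to a power of the ideal. -/
theorem exists_lift_pow [IsNoetherian X] {F G : X.Modules} (hF : F.IsQuasicoherent) (hG : Coh.IsCoh G)
    (I : X.IdealSheafData) (U : X.Opens) (hU : (U : Set X) = (I.support : Set X)ᶜ)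
    (φ : (Scheme.Modules.restrictFunctor U.ι).obj G ⟶ (Scheme.Modules.restrictFunctor U.ι).obj F) :
    ∃ (n : ℕ) (ψ : (Dual3.idealMul (I ^ n)).obj G ⟶ F),
      (Scheme.Modules.restrictFunctor U.ι).map ψ =
        (Scheme.Modules.restrictFunctor U.ι).map (Dual3.idealMulι (I ^ n) G) ≫ φ := by
  haveI := hG.1
  haveI := hF
  let J := (Scheme.Modules.pushforward U.ι).obj ((Scheme.Modules.restrictFunctor U.ι).obj F)
  let η : F ⟶ J := (Scheme.Modules.restrictAdjunction U.ι).unit.app F
  let a : G ⟶ J := ((Scheme.Modules.restrictAdjunction U.ι).homEquiv _ _) φ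
  haveI : CompactSpace U := isCompact_iff_compactSpace.mp
    (TopologicalSpace.NoetherianSpace.isCompact (U : Set X))
  haveI : QuasiCompact U.ι := inferInstance
  haveI hR : ((Scheme.Modules.restrictFunctor U.ι).obj F).IsQuasicoherent := inferInstance
  haveI : J.IsQuasicoherent := QCoh.isQuasicoherent_pushforward U.ι _
  haveI := Cohom.isQuasicoherent_biprod G F
  let c : G ⊞ F ⟶ J := biprod.fst ≫ a - biprod.snd ≫ η
  let P := kernel c
  haveI hP : P.IsQuasicoherent := isQuasicoherent_kernel c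
  let p₁ : P ⟶ G := kernel.ι c ≫ biprod.fst
  let p₂ : P ⟶ F := kernel.ι c ≫ biprod.snd
  have hp : p₁ ≫ a = p₂ ≫ η := by
    rw [← sub_eq_zero, Category.assoc, Category.assoc, ← Preadditive.comp_sub]
    exact kernel.condition c
  have hη : ∀ W : X.Opens, W ≤ U → Function.Bijective (η.app W) := fun W hW => by
    have e : U.ι ''ᵁ U.ι ⁻¹ᵁ W = W := by
      rw [Scheme.Hom.image_preimage_eq_opensRange_inf, Scheme.Opens.opensRange_ι]
      exact inf_eq_right.2 hW
    show Function.Bijective (((Scheme.Modules.restrictAdjunction U.ι).unit.app F).app W)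
    rw [Scheme.Modules.restrictAdjunction_unit_app_app]
    haveI : IsIso (homOfLE (U.ι.image_preimage_le W)).op := by
      haveI : IsIso (homOfLE (U.ι.image_preimage_le W)) := ⟨homOfLE e.ge, rfl, rfl⟩
      infer_instance
    exact ConcreteCategory.bijective_of_isIso _
  have hsurj : ∀ W : X.Opens, W ≤ U → Function.Surjective (p₁.app W) := fun W hW g => by
    obtain ⟨f, hf⟩ := (hη W hW).2 (a.app W g)
    have hz : c.app W ((biprod.inl : G ⟶ G ⊞ F).app W g + (biprod.inr : F ⟶ G ⊞ F).app W f) = 0 := by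
      rw [map_add, ← app_comp_apply, ← app_comp_apply]
      simp only [c, Preadditive.comp_sub, biprod.inl_fst_assoc, biprod.inl_snd_assoc, zero_comp, sub_zero,
        biprod.inr_fst_assoc, biprod.inr_snd_assoc, zero_sub]
      show a.app W g + -(η.app W f) = 0
      rw [hf, add_neg_cancel]
    obtain ⟨w, hw⟩ := (exists_app_kernel c W _).2 hz
    refine ⟨w, ?_⟩
    rw [app_comp_apply, hw, map_add, ← app_comp_apply, ← app_comp_apply, biprod.inl_fst, biprod.inr_fst,
      app_zero_apply, add_zero]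
    rfl
  have hinj : ∀ W : X.Opens, W ≤ U → ∀ w, p₁.app W w = 0 → w = 0 := fun W hW w hw => by
    have h2 : p₂.app W w = 0 := by
      refine (hη W hW).1 ?_
      rw [← app_comp_apply, ← hp, app_comp_apply, hw, map_zero, map_zero]
    refine Cohom.app_injective_of_mono (kernel.ι c) W ?_
    have hid : (biprod.fst ≫ biprod.inl + biprod.snd ≫ biprod.inr : G ⊞ F ⟶ G ⊞ F) = 𝟙 _ := biprod.total
    have hh := congrArg (fun ψ : G ⊞ F ⟶ G ⊞ F => ψ.app W ((kernel.ι c).app W w)) hid
    refine hh.symm.trans ?_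
    show ((biprod.fst ≫ biprod.inl : G ⊞ F ⟶ G ⊞ F).app W ((kernel.ι c).app W w) +
      (biprod.snd ≫ biprod.inr : G ⊞ F ⟶ G ⊞ F).app W ((kernel.ι c).app W w)) = (kernel.ι c).app W 0
    rw [app_comp_apply, app_comp_apply, map_zero, ← app_comp_apply (kernel.ι c) biprod.fst,
      ← app_comp_apply (kernel.ι c) biprod.snd]
    erw [hw, h2]
    simp
  -- a finite type submodule which is everything on `U`
  obtain ⟨κ, hκ, V, hV⟩ := exists_finite_cover X
  classical
  have hfin : ∀ i, ∃ s : Finset Γ(X, (V i).1), Ideal.span (s : Set Γ(X, (V i).1)) = I.ideal (V i) := fun i => by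
    haveI : IsNoetherianRing Γ(X, (V i).1) := IsLocallyNoetherian.component_noetherian (V i)
    exact IsNoetherian.noetherian (I.ideal (V i))
  choose s hs using hfin
  have hle : ∀ i (b : {b // b ∈ s i}), X.basicOpen b.1 ≤ U := fun i b =>
    basicOpen_le_compl I hU (V i) (hs i ▸ Ideal.subset_span b.2)
  have hgen : ∀ i, ∃ t : Finset Γ(G, (V i).1), Submodule.span Γ(X, (V i).1) (t : Set Γ(G, (V i).1)) = ⊤ := fun i => by
    haveI := moduleFinite_of_isFiniteType G hG.2 (V i).2
    exact Module.Finite.fg_top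
  choose t ht using hgen
  choose g hg using fun (i : κ) (b : {b // b ∈ s i}) (m : {m // m ∈ t i}) =>
    hsurj _ (hle i b) (G.presheaf.map (homOfLE (X.basicOpen_le b.1)).op m.1)
  obtain ⟨Q, hQ, hQg⟩ := FTIdeals9.exists_locGen_family (F := P)
    (κ := Σ i, {b // b ∈ s i} × {m // m ∈ t i}) (fun q => X.basicOpen q.2.1.1)
    (fun q => ((V q.1).2.basicOpen q.2.1.1).isCompact) (fun q => g q.1 q.2.1 q.2.2)
  have hQc : Coh.IsCoh Q.obj := ⟨hQ.isQuasicoherent, hQ.isFiniteType⟩
  let T : Set X := (I.support : Set X)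
  let A := avoid Q.obj hQc T
  have hA := avoid_isCoh Q.obj hQc T
  let j : A.obj ⟶ G := A.ι ≫ Q.ι ≫ p₁
  have hdis : ∀ {W : X.Opens}, W ≤ U → Disjoint (W : Set X) T := fun hW =>
    (Set.subset_compl_iff_disjoint_right).1 (fun x hx => hU ▸ hW hx)
  have hzero : ∀ (W : X.Opens) (w : Γ(A.obj, W)), j.app W w = 0 → w = 0 := fun W w hw => by
    refine A.ι_app_injective W ?_
    rw [map_zero]
    refine eq_zero_of_mem_avoid Q.obj hQc T (A.ι_app_mem w) fun x hx hxT => ?_
    have hxU : x ∈ U := by rw [← SetLike.mem_coe, hU]; exact hxT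
    have h1 : Q.obj.presheaf.map (homOfLE (inf_le_left : W ⊓ U ≤ W)).op (A.ι.app W w) = 0 := by
      refine Q.ι_app_injective _ ?_
      rw [map_zero]
      refine hinj _ inf_le_right _ ?_
      have n1 := NatTrans.naturality_apply (Q.ι ≫ p₁).mapPresheaf (homOfLE (inf_le_left : W ⊓ U ≤ W)).op (A.ι.app W w)
      refine n1.trans ((congrArg (G.presheaf.map (homOfLE (inf_le_left : W ⊓ U ≤ W)).op) hw).trans (map_zero _))
    rw [← TopCat.Presheaf.germ_res_apply Q.obj.presheaf (homOfLE (inf_le_left : W ⊓ U ≤ W)) x ⟨hx, hxU⟩, h1, map_zero]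
  haveI : Mono j := mono_of_injective_cover hA.1 hG.1 j V hV fun i w w' hww =>
    sub_eq_zero.1 (hzero _ (w - w') (by rw [map_sub, hww, sub_self]))
  have hn : ∀ i, ∃ n : ℕ, I.ideal (V i) ^ n • (⊤ : Submodule Γ(X, (V i).1) Γ(G, (V i).1)) ≤
      LinearMap.range (appLinear j (V i).1) := fun i => by
    haveI : IsNoetherianRing Γ(X, (V i).1) := IsLocallyNoetherian.component_noetherian (V i)
    have hb : ∀ b : {b // b ∈ s i}, ∀ m : Γ(G, (V i).1), ∃ l : ℕ, b.1 ^ l • m ∈ LinearMap.range (appLinear j (V i).1) := by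
      intro b m
      have hm : m ∈ Submodule.span Γ(X, (V i).1) (t i : Set Γ(G, (V i).1)) := ht i ▸ trivial
      induction hm using Submodule.span_induction with
      | mem y hy =>
        obtain ⟨w, hw⟩ : ∃ w : Γ(A.obj, X.basicOpen b.1),
            j.app (X.basicOpen b.1) w = G.presheaf.map (homOfLE (X.basicOpen_le b.1)).op y := by
          refine ⟨A.lift (Q.lift _ (hQg ⟨i, b, ⟨y, hy⟩⟩)) (mem_avoid_of_disjoint Q.obj hQc T (hdis (hle i b)) _), ?_⟩
          exact hg i b ⟨y, hy⟩
        haveI := hA.1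
        obtain ⟨l, w', hw'⟩ := (smulLift_and_smulSep_of_isAffineOpen (V i).2 A.obj b.1).1 w
        have h0 : G.presheaf.map (homOfLE (X.basicOpen_le b.1)).op (b.1 ^ l • y - j.app (V i).1 w') = 0 := by
          rw [map_sub, sub_eq_zero, Scheme.Modules.map_smul, map_pow, ← hw]
          refine Eq.trans ?_ (NatTrans.naturality_apply j.mapPresheaf (homOfLE (X.basicOpen_le b.1)).op w')
          refine ((Scheme.Modules.Hom.app_smul j _ w).symm).trans ?_
          exact congrArg (j.app (X.basicOpen b.1)) hw'.symm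
        obtain ⟨l', hl'⟩ := (smulLift_and_smulSep_of_isAffineOpen (V i).2 G b.1).2 _ h0
        refine ⟨l' + l, b.1 ^ l' • w', ?_⟩
        rw [smul_sub, sub_eq_zero, ← mul_smul, ← pow_add] at hl'
        exact (Scheme.Modules.Hom.app_smul j _ w').trans hl'.symm
      | zero => exact ⟨0, by rw [smul_zero]; exact zero_mem _⟩
      | add y z _ _ hy hz =>
        obtain ⟨l, hl⟩ := hy
        obtain ⟨l', hl'⟩ := hz
        refine ⟨l + l', ?_⟩
        rw [smul_add, pow_add]
        refine add_mem ?_ ?_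
        · rw [mul_comm, mul_smul]; exact Submodule.smul_mem _ _ hl
        · rw [mul_smul]; exact Submodule.smul_mem _ _ hl'
      | smul d y _ hy =>
        obtain ⟨l, hl⟩ := hy
        exact ⟨l, by rw [smul_comm]; exact Submodule.smul_mem _ d hl⟩
    haveI := moduleFinite_of_isFiniteType G hG.2 (V i).2
    have hrad : I.ideal (V i) ≤ ((LinearMap.range (appLinear j (V i).1)).colon (t i : Set Γ(G, (V i).1))).radical := by
      rw [← hs i, Ideal.span_le]
      intro b hb'
      choose l hl using hb ⟨b, hb'⟩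
      refine ⟨(t i).sup l, Submodule.mem_colon.2 fun m hm => ?_⟩
      obtain ⟨k, hk⟩ := Nat.exists_eq_add_of_le (Finset.le_sup (f := l) hm)
      rw [hk, pow_add, mul_comm, mul_smul]
      exact Submodule.smul_mem _ _ (hl m)
    obtain ⟨n, hn⟩ := Ideal.exists_pow_le_of_le_radical_of_fg hrad (IsNoetherian.noetherian _)
    refine ⟨n, Submodule.smul_le.2 fun r hr m hmm => ?_⟩
    clear hmm
    have hm : m ∈ Submodule.span Γ(X, (V i).1) (t i : Set Γ(G, (V i).1)) := ht i ▸ trivial
    induction hm using Submodule.span_induction with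
    | mem y hy => exact Submodule.mem_colon.1 (hn hr) y hy
    | zero => rw [smul_zero]; exact zero_mem _
    | add y z _ _ hy hz => rw [smul_add]; exact add_mem hy hz
    | smul d y _ hy => rw [smul_comm]; exact Submodule.smul_mem _ d hy
  choose n hn using hn
  let N := Finset.univ.sup n
  obtain ⟨l, hl⟩ := exists_factor (isQuasicoherent_idealMul (I ^ N) hG.1) hA.1 hG.1 j
    (Dual3.idealMulι (I ^ N) G) V hV fun i m => by
      have h := app_idealMulι_mem (I ^ N) hG.1 (V i) m
      rw [Scheme.IdealSheafData.ideal_pow] at h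
      exact hn i (Submodule.smul_mono_left (Ideal.pow_le_pow_right (Finset.le_sup (f := n) (Finset.mem_univ i))) h)
  refine ⟨N, l ≫ A.ι ≫ Q.ι ≫ p₂, ?_⟩
  apply ((Scheme.Modules.restrictAdjunction U.ι).homEquiv _ _).injective
  rw [Adjunction.homEquiv_naturality_left, Adjunction.homEquiv_unit]
  refine ((Scheme.Modules.restrictAdjunction U.ι).unit_naturality _).trans ?_
  show (l ≫ A.ι ≫ Q.ι ≫ p₂) ≫ η = Dual3.idealMulι (I ^ N) G ≫ a
  rw [← hl]
  simp only [j, Category.assoc, hp]

end GrothLib.IdealMul9
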